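import Cfsg.Agent.Lib.Lead.Fi23Syl.MatThm

/-!
# A certificate that an extension by an elementary abelian 2-group does not split

`N` is a normal subgroup of `E` whose elements are `el x` for the bit masks `x < 2 ^ d` (`el` additive and injective
there).  Two elements `a`, `b` of `E` act on `N` by the matrices `Ma`, `Mb`, and
`a * a = el c1 * (b * b)`, `(a * b) * (a * b) = el c2 * (b * b)` (so their images generate a quotient of the quaternion
group of order 8 in `E / N`).  If the two affine equations that say that the elements `el v * a`, `el w * b` satisfy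
`A * A = B * B = (A * B) * (A * B)` are inconsistent, witnessed by two linear functionals `l1`, `l2`, then `N` has no
complement in `E`.
-/

set_option autoImplicit false

namespace Cfsg.Agent.Lib.Lead.M23Ext

open Cfsg.Agent.Lib.Lead.Fi23Syl

/-- the parity of the number of common bits of `l` and `x` among the lowest `n` bits -/
def dot : ℕ → ℕ → ℕ → Bool
  | 0, _, _ => false
  | n + 1, l, x => xor (Nat.beq (l % 2) 1 && Nat.beq (x % 2) 1) (dot n (l / 2) (x / 2))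

theorem dot_zero_right : ∀ (n l : ℕ), dot n l 0 = false
  | 0, _ => rfl
  | n + 1, l => by
    rw [dot, Nat.zero_div, dot_zero_right n, Nat.zero_mod, beq01, Bool.and_false]
    rfl

theorem dot_xor : ∀ (n l x y : ℕ), dot n l (x ^^^ y) = xor (dot n l x) (dot n l y)
  | 0, _, _, _ => rfl
  | n + 1, l, x, y => by
    rw [dot, dot, dot, Nat.xor_div_two, dot_xor n, Nat.xor_mod_two_eq, Nat.add_mod]
    have hx : x % 2 < 2 := Nat.mod_lt _ (by norm_num)
    have hy : y % 2 < 2 := Nat.mod_lt _ (by norm_num)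
    generalize dot n (l / 2) (x / 2) = p
    generalize dot n (l / 2) (y / 2) = q
    generalize Nat.beq (l % 2) 1 = r
    obtain hx0 | hx1 : x % 2 = 0 ∨ x % 2 = 1 := by omega
    · obtain hy0 | hy1 : y % 2 = 0 ∨ y % 2 = 1 := by omega
      · rw [hx0, hy0]; cases p <;> cases q <;> cases r <;> rfl
      · rw [hx0, hy1]; cases p <;> cases q <;> cases r <;> rfl
    · obtain hy0 | hy1 : y % 2 = 0 ∨ y % 2 = 1 := by omega
      · rw [hx1, hy0]; cases p <;> cases q <;> cases r <;> rfl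
      · rw [hx1, hy1]; cases p <;> cases q <;> cases r <;> rfl

variable {E : Type*} [Group E]

/-- the certificate: the data and the checks -/
structure Q8Cert (N : Subgroup E) where
  d : ℕ
  el : ℕ → E
  a : E
  b : E
  Ma : List ℕ
  Mb : List ℕ
  c1 : ℕ
  c2 : ℕ
  l1 : ℕ
  l2 : ℕ
  el_xor : ∀ x y, el (x ^^^ y) = el x * el y
  el_zero : el 0 = 1
  el_mem : ∀ x, el x ∈ N
  el_surj : ∀ n ∈ N, ∃ x < 2 ^ d, n = el x
  el_inj : ∀ x < 2 ^ d, el x = 1 → x = 0
  hMa : ∀ c ∈ Ma, c < 2 ^ d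
  hMb : ∀ c ∈ Mb, c < 2 ^ d
  conj_a : ∀ x < 2 ^ d, a * el x * a⁻¹ = el (mv Ma x)
  conj_b : ∀ x < 2 ^ d, b * el x * b⁻¹ = el (mv Mb x)
  hc1 : c1 < 2 ^ d
  hc2 : c2 < 2 ^ d
  h1 : a * a = el c1 * (b * b)
  h2 : (a * b) * (a * b) = el c2 * (b * b)
  chk_const : xor (dot d l1 c1) (dot d l2 c2) = true
  chk_v : ∀ v < 2 ^ d, xor (dot d l1 (v ^^^ mv Ma v)) (dot d l2 (v ^^^ mv Ma (mv Mb v))) = false
  chk_w : ∀ w < 2 ^ d, xor (dot d l1 (w ^^^ mv Mb w))
    (dot d l2 ((mv Ma w ^^^ mv Ma (mv Mb (mv Ma w))) ^^^ (w ^^^ mv Mb w))) = false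

namespace Q8Cert

variable {N : Subgroup E} (C : Q8Cert N)

theorem el_mul_self (x : ℕ) : C.el x * C.el x = 1 := by
  rw [← C.el_xor, Nat.xor_self, C.el_zero]

theorem el_inv (x : ℕ) : (C.el x)⁻¹ = C.el x := inv_eq_of_mul_eq_one_left (C.el_mul_self x)

theorem el_comm (x y : ℕ) : C.el x * C.el y = C.el y * C.el x := by
  rw [← C.el_xor, ← C.el_xor, Nat.xor_comm]

/-- the square of `el v * g` when `g` acts by the matrix `M` -/
theorem sq_el_mul (g : E) (M : List ℕ) (hg : ∀ x < 2 ^ C.d, g * C.el x * g⁻¹ = C.el (mv M x)) (v : ℕ)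
    (hv : v < 2 ^ C.d) : (C.el v * g) * (C.el v * g) = C.el (v ^^^ mv M v) * (g * g) := by
  have h : g * C.el v = C.el (mv M v) * g := by
    rw [← hg v hv, inv_mul_cancel_right]
  calc (C.el v * g) * (C.el v * g) = C.el v * (g * C.el v) * g := by simp only [mul_assoc]
    _ = C.el v * (C.el (mv M v) * g) * g := by rw [h]
    _ = C.el (v ^^^ mv M v) * (g * g) := by rw [C.el_xor]; simp only [mul_assoc]

theorem conj_ab (x : ℕ) (hx : x < 2 ^ C.d) :
    (C.a * C.b) * C.el x * (C.a * C.b)⁻¹ = C.el (mv C.Ma (mv C.Mb x)) := by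
  rw [← C.conj_a _ (mv_lt C.Mb C.hMb x), ← C.conj_b x hx]
  group

include C in
/-- the extension does not split -/
theorem no_complement [N.Normal] (H : Subgroup E) (hHN : H ⊓ N = ⊥) : H ⊔ N ≠ ⊤ := by
  intro htop
  have hd : ∀ g : E, ∃ v < 2 ^ C.d, C.el v * g ∈ H := by
    intro g
    have hg : g ∈ ((H ⊔ N : Subgroup E) : Set E) := by rw [htop]; exact Subgroup.mem_top g
    rw [Subgroup.mul_normal (N := N)] at hg
    obtain ⟨h, hh, n, hn, rfl⟩ := Set.mem_mul.1 hg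
    obtain ⟨x, hx, hxe⟩ := C.el_surj _ (N.inv_mem (Subgroup.Normal.conj_mem inferInstance n hn h))
    refine ⟨x, hx, ?_⟩
    have : (h * n * h⁻¹)⁻¹ * (h * n) = h := by group
    rw [← hxe, this]
    exact hh
  obtain ⟨v, hv, hA⟩ := hd C.a
  obtain ⟨w, hw, hB⟩ := hd C.b
  have hvM : mv C.Ma v < 2 ^ C.d := mv_lt C.Ma C.hMa v
  have hwM : mv C.Mb w < 2 ^ C.d := mv_lt C.Mb C.hMb w
  have key : ∀ x : ℕ, C.el x ∈ H → x < 2 ^ C.d → x = 0 := by
    intro x hxH hx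
    apply C.el_inj x hx
    have : C.el x ∈ H ⊓ N := ⟨hxH, C.el_mem x⟩
    rw [hHN] at this
    exact this
  -- first equation
  have e1 : (v ^^^ mv C.Ma v) ^^^ C.c1 ^^^ (w ^^^ mv C.Mb w) = 0 := by
    apply key
    · have h1 : C.el ((v ^^^ mv C.Ma v) ^^^ C.c1 ^^^ (w ^^^ mv C.Mb w)) =
          ((C.el v * C.a) * (C.el v * C.a)) * ((C.el w * C.b) * (C.el w * C.b))⁻¹ := by
        rw [C.sq_el_mul C.a C.Ma C.conj_a v hv, C.sq_el_mul C.b C.Mb C.conj_b w hw, C.h1, mul_inv_rev, C.el_inv,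
          C.el_xor, C.el_xor]
        group
      rw [h1]
      exact H.mul_mem (H.mul_mem hA hA) (H.inv_mem (H.mul_mem hB hB))
    · exact Nat.xor_lt_two_pow (Nat.xor_lt_two_pow (Nat.xor_lt_two_pow hv hvM) C.hc1)
        (Nat.xor_lt_two_pow hw hwM)
  -- second equation
  have hAB : (C.el v * C.a) * (C.el w * C.b) = C.el (v ^^^ mv C.Ma w) * (C.a * C.b) := by
    have h : C.a * C.el w = C.el (mv C.Ma w) * C.a := by
      rw [← C.conj_a w hw, inv_mul_cancel_right]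
    calc (C.el v * C.a) * (C.el w * C.b) = C.el v * (C.a * C.el w) * C.b := by simp only [mul_assoc]
      _ = C.el v * (C.el (mv C.Ma w) * C.a) * C.b := by rw [h]
      _ = C.el (v ^^^ mv C.Ma w) * (C.a * C.b) := by rw [C.el_xor]; simp only [mul_assoc]
  have huM : mv C.Ma w < 2 ^ C.d := mv_lt C.Ma C.hMa w
  have hu : v ^^^ mv C.Ma w < 2 ^ C.d := Nat.xor_lt_two_pow hv huM
  have hu2 : mv C.Ma (mv C.Mb (v ^^^ mv C.Ma w)) < 2 ^ C.d := mv_lt C.Ma C.hMa _
  have e2 : ((v ^^^ mv C.Ma w) ^^^ mv C.Ma (mv C.Mb (v ^^^ mv C.Ma w))) ^^^ C.c2 ^^^ (w ^^^ mv C.Mb w) = 0 := by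
    apply key
    · have h1 : C.el (((v ^^^ mv C.Ma w) ^^^ mv C.Ma (mv C.Mb (v ^^^ mv C.Ma w))) ^^^ C.c2 ^^^
            (w ^^^ mv C.Mb w)) =
          (((C.el v * C.a) * (C.el w * C.b)) * ((C.el v * C.a) * (C.el w * C.b))) *
            ((C.el w * C.b) * (C.el w * C.b))⁻¹ := by
        rw [hAB, C.sq_el_mul (C.a * C.b) (C.Mb.map (mv C.Ma)) ?_ _ hu, C.sq_el_mul C.b C.Mb C.conj_b w hw, C.h2,
          mul_inv_rev, C.el_inv, C.el_xor, C.el_xor]
        · rw [← map_mv (mv C.Ma) (mv_xor C.Ma) (mv_zero C.Ma)]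
          group
        · intro x hx
          rw [C.conj_ab x hx, ← map_mv (mv C.Ma) (mv_xor C.Ma) (mv_zero C.Ma)]
      rw [h1]
      exact H.mul_mem (H.mul_mem (H.mul_mem hA hB) (H.mul_mem hA hB)) (H.inv_mem (H.mul_mem hB hB))
    · exact Nat.xor_lt_two_pow (Nat.xor_lt_two_pow (Nat.xor_lt_two_pow hu hu2) C.hc2)
        (Nat.xor_lt_two_pow hw hwM)
  -- the functionals
  have f1 := congrArg (dot C.d C.l1) e1
  have f2 := congrArg (dot C.d C.l2) e2
  rw [dot_zero_right] at f1 f2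
  rw [dot_xor, dot_xor] at f1
  rw [mv_xor, mv_xor] at f2
  have cv := C.chk_v v hv
  have cw := C.chk_w w hw
  have cc := C.chk_const
  -- regroup the second equation
  have e2' : ((v ^^^ mv C.Ma w) ^^^ (mv C.Ma (mv C.Mb v) ^^^ mv C.Ma (mv C.Mb (mv C.Ma w)))) ^^^ C.c2 ^^^
      (w ^^^ mv C.Mb w) =
      (v ^^^ mv C.Ma (mv C.Mb v)) ^^^ C.c2 ^^^
        ((mv C.Ma w ^^^ mv C.Ma (mv C.Mb (mv C.Ma w))) ^^^ (w ^^^ mv C.Mb w)) := by
    ac_rfl
  rw [e2', dot_xor, dot_xor] at f2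
  revert f1 f2 cv cw cc
  generalize dot C.d C.l1 (v ^^^ mv C.Ma v) = p1
  generalize dot C.d C.l1 C.c1 = p2
  generalize dot C.d C.l1 (w ^^^ mv C.Mb w) = p3
  generalize dot C.d C.l2 (v ^^^ mv C.Ma (mv C.Mb v)) = q1
  generalize dot C.d C.l2 C.c2 = q2
  generalize dot C.d C.l2 ((mv C.Ma w ^^^ mv C.Ma (mv C.Mb (mv C.Ma w))) ^^^ (w ^^^ mv C.Mb w)) = q3
  cases p1 <;> cases p2 <;> cases p3 <;> cases q1 <;> cases q2 <;> cases q3 <;> simp

end Q8Cert

end Cfsg.Agent.Lib.Lead.M23Ext
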